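import Mathlib
import Cfsg.Agent.Lib.Coprime.PGroup
import Cfsg.Agent.Lib.Cores.Nilpotent

/-!
# `p`-groups with abelianization of order `p²`
-/

set_option autoImplicit false
set_option linter.style.haveILetI false

namespace Cfsg.Agent.BlocksChars.SmallCentralizer

open scoped commutatorElement Pointwise

universe u

variable {X : Type u} [Group X] [Finite X] {p : ℕ} [Fact p.Prime]

theorem comm_of_index_commutator_lt (hX : IsPGroup p X) (h : (commutator X).index < p ^ 2) :
    commutator X = ⊥ := by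
  classical
  haveI := hX.isNilpotent
  have hp : p.Prime := Fact.out
  obtain ⟨j, hj⟩ := (hX.to_quotient (commutator X)).exists_card_eq
  rw [← Subgroup.index_eq_card] at hj
  have hj1 : j ≤ 1 := by
    by_contra h2
    push Not at h2
    have := Nat.pow_le_pow_right hp.pos (show 2 ≤ j from h2)
    omega
  haveI : IsCyclic (X ⧸ commutator X) := by
    rcases (by omega : j = 0 ∨ j = 1) with rfl | rfl
    · haveI : Subsingleton (X ⧸ commutator X) := (Nat.card_eq_one_iff_unique.1
        (by rw [← Subgroup.index_eq_card, hj, pow_zero])).1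
      infer_instance
    · exact isCyclic_of_prime_card (p := p) (by rw [← Subgroup.index_eq_card, hj, pow_one])
  obtain ⟨g, hg⟩ := IsCyclic.exists_generator (α := X ⧸ commutator X)
  obtain ⟨x, rfl⟩ := QuotientGroup.mk'_surjective (commutator X) g
  have htop : Subgroup.zpowers x ⊔ commutator X = ⊤ := by
    rw [eq_top_iff]
    intro y _
    obtain ⟨i, hi⟩ := Subgroup.mem_zpowers_iff.1 (hg (QuotientGroup.mk' _ y))
    rw [← map_zpow] at hi
    have h1 : (x ^ i)⁻¹ * y ∈ commutator X := QuotientGroup.eq.1 hi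
    rw [show y = x ^ i * ((x ^ i)⁻¹ * y) by group]
    exact mul_mem (Subgroup.mem_sup_left (Subgroup.zpow_mem_zpowers x i))
      (Subgroup.mem_sup_right h1)
  have h2 : Subgroup.zpowers x = ⊤ := frattini_nongenerating (eq_top_iff.2 (htop.ge.trans
    (sup_le_sup_left (Cfsg.Agent.Coprime.commutator_le_frattini X) _)))
  rw [_root_.commutator, eq_bot_iff, Subgroup.commutator_le]
  intro a _ b _
  rw [Subgroup.mem_bot, commutatorElement_eq_one_iff_mul_comm]
  obtain ⟨i, rfl⟩ := Subgroup.mem_zpowers_iff.1 (h2.symm ▸ Subgroup.mem_top a : a ∈ Subgroup.zpowers x)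
  obtain ⟨k, rfl⟩ := Subgroup.mem_zpowers_iff.1 (h2.symm ▸ Subgroup.mem_top b : b ∈ Subgroup.zpowers x)
  exact (Commute.zpow_zpow_self x i k).eq

theorem le_index_commutator (hX : IsPGroup p X) (h : p ^ 2 ∣ Nat.card X) :
    p ^ 2 ≤ (commutator X).index := by
  by_contra hc
  push Not at hc
  have h1 := comm_of_index_commutator_lt hX hc
  rw [h1, Subgroup.index_bot] at hc
  exact absurd (Nat.le_of_dvd Nat.card_pos h) (not_le.2 hc)

theorem index_commutator_le_of_centralizer (x : X)
    (h : Nat.card (Subgroup.centralizer ({x} : Set X)) ≤ p ^ 2) :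
    (commutator X).index ≤ p ^ 2 := by
  set C := Subgroup.centralizer ({x} : Set X) with hC
  have hmem : ∀ g : X, ⁅g, x⁆ ∈ commutator X := fun g =>
    Subgroup.commutator_mem_commutator (Subgroup.mem_top g) (Subgroup.mem_top x)
  let f : X ⧸ C → commutator X := fun q =>
    Quotient.liftOn' q (fun g => ⟨⁅g, x⁆, hmem g⟩) (fun a b hab => by
      rw [QuotientGroup.leftRel_apply, hC, Subgroup.mem_centralizer_singleton_iff] at hab
      refine Subtype.ext ?_
      simp only [commutatorElement_def]
      have e1 : b * x * b⁻¹ = a * x * a⁻¹ := by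
        calc b * x * b⁻¹ = a * (a⁻¹ * b * x) * b⁻¹ := by group
          _ = a * (x * (a⁻¹ * b)) * b⁻¹ := by rw [hab]
          _ = a * x * a⁻¹ := by group
      rw [e1])
  have hf : Function.Injective f := by
    intro q r
    refine Quotient.inductionOn₂' q r fun a b hab => ?_
    have h1 : ⁅a, x⁆ = ⁅b, x⁆ := congrArg Subtype.val hab
    simp only [commutatorElement_def] at h1
    have h2 := mul_right_cancel h1
    refine Quotient.sound' ?_
    rw [QuotientGroup.leftRel_apply, hC, Subgroup.mem_centralizer_singleton_iff]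
    calc a⁻¹ * b * x = a⁻¹ * (b * x * b⁻¹) * b := by group
      _ = a⁻¹ * (a * x * a⁻¹) * b := by rw [← h2]
      _ = x * (a⁻¹ * b) := by group
  have h1 : C.index ≤ Nat.card (commutator X) := by
    rw [Subgroup.index_eq_card]
    exact Nat.card_le_card_of_injective f hf
  have h2 : Nat.card X ≤ p ^ 2 * Nat.card (commutator X) := by
    rw [← C.card_mul_index]
    exact Nat.mul_le_mul h h1
  rw [← (commutator X).index_mul_card] at h2
  exact Nat.le_of_mul_le_mul_right h2 Nat.card_pos

/-- An abelian normal subgroup of index `p`: the centralizer in it of an outside element is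
small. -/
theorem card_centralizer_inf_le (hidx : (commutator X).index = p ^ 2) (A : Subgroup X) [A.Normal]
    (hA : ∀ a ∈ A, ∀ b ∈ A, a * b = b * a) (hAi : A.index = p) {x : X} (hx : x ∉ A) :
    Nat.card (Subgroup.centralizer ({x} : Set X) ⊓ A : Subgroup X) ≤ p := by
  have hp : p.Prime := Fact.out
  set C := Subgroup.centralizer ({x} : Set X) with hC
  have hmem : ∀ a ∈ A, ⁅x, a⁆ ∈ A := fun a ha => by
    rw [commutatorElement_def]
    exact mul_mem (Subgroup.Normal.conj_mem inferInstance a ha x) (inv_mem ha)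
  let f : A →* A := MonoidHom.mk' (fun a => ⟨⁅x, (a : X)⁆, hmem a a.2⟩) fun a b => Subtype.ext (by
    show ⁅x, (a : X) * b⁆ = ⁅x, (a : X)⁆ * ⁅x, (b : X)⁆
    calc ⁅x, (a : X) * b⁆ = ⁅x, (a : X)⁆ * ((a : X) * ⁅x, (b : X)⁆) * (a : X)⁻¹ := by
          simp only [commutatorElement_def]; group
      _ = ⁅x, (a : X)⁆ * (⁅x, (b : X)⁆ * a) * (a : X)⁻¹ := by rw [hA _ a.2 _ (hmem b b.2)]
      _ = ⁅x, (a : X)⁆ * ⁅x, (b : X)⁆ := by group)
  have hker : f.ker = (C ⊓ A).subgroupOf A := by
    ext a
    rw [MonoidHom.mem_ker, Subgroup.mem_subgroupOf, Subgroup.mem_inf, hC,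
      Subgroup.mem_centralizer_singleton_iff]
    refine ⟨fun h => ⟨?_, a.2⟩, fun h => Subtype.ext ?_⟩
    · exact (commutatorElement_eq_one_iff_mul_comm.1 (congrArg Subtype.val h)).symm
    · exact commutatorElement_eq_one_iff_mul_comm.2 h.1.symm
  set R := f.range.map A.subtype with hR
  have hRA : R ≤ A := Subgroup.map_subtype_le _
  have hgen : A ⊔ Subgroup.zpowers x = ⊤ := by
    rw [← Subgroup.index_eq_one]
    have h1 := Subgroup.relIndex_mul_index (le_sup_left : A ≤ A ⊔ Subgroup.zpowers x)
    rw [hAi] at h1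
    rcases (Nat.dvd_prime hp).1 ⟨_, (mul_comm _ _).trans h1 |>.symm⟩ with h2 | h2
    · exact h2
    · exfalso
      rw [h2] at h1
      have h3 : A.relIndex (A ⊔ Subgroup.zpowers x) = 1 := by
        have := hp.pos
        nlinarith
      exact hx (Subgroup.relIndex_eq_one.1 h3 (Subgroup.mem_sup_right (Subgroup.mem_zpowers x)))
  have hxR : ∀ r ∈ R, x * r * x⁻¹ ∈ R := by
    rintro _ ⟨_, ⟨a, rfl⟩, rfl⟩
    refine ⟨_, ⟨⟨x * a * x⁻¹, Subgroup.Normal.conj_mem inferInstance _ a.2 x⟩, rfl⟩, ?_⟩
    show ⁅x, x * (a : X) * x⁻¹⁆ = x * ⁅x, (a : X)⁆ * x⁻¹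
    simp only [commutatorElement_def]; group
  have hAR : A ≤ Subgroup.normalizer (R : Set X) := fun a ha => by
    rw [Subgroup.mem_normalizer_iff]
    intro r
    constructor
    · intro hr
      rwa [hA a ha r (hRA hr), mul_inv_cancel_right]
    · intro hr
      have h2 := hA a ha _ (hRA hr)
      have h3 : r = a * r * a⁻¹ := by
        calc r = a⁻¹ * ((a * r * a⁻¹) * a) := by group
          _ = a⁻¹ * (a * (a * r * a⁻¹)) := by rw [h2]
          _ = a * r * a⁻¹ := by group
      rwa [h3]
  have hxN : x ∈ Subgroup.normalizer (R : Set X) :=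
    Subgroup.mem_normalizer_fintype (by exact fun r hr => hxR r hr)
  haveI : R.Normal := Subgroup.normalizer_eq_top_iff.1 (eq_top_iff.2 (hgen ▸
    sup_le hAR (Subgroup.zpowers_le.2 hxN)))
  have hXR : commutator X ≤ R := by
    set π := QuotientGroup.mk' R with hπ
    have hxa : ∀ a ∈ A, π x * π a = π a * π x := fun a ha => by
      rw [← commutatorElement_eq_one_iff_mul_comm, ← map_commutatorElement]
      exact (QuotientGroup.eq_one_iff _).2 ⟨_, ⟨⟨a, ha⟩, rfl⟩, rfl⟩
    have hcomm : IsMulCommutative (Subgroup.closure ((π '' (A : Set X)) ∪ {π x})) := by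
      refine Subgroup.isMulCommutative_closure fun u hu v hv => ?_
      rcases hu with ⟨a, ha, rfl⟩ | rfl <;> rcases hv with ⟨b, hb, rfl⟩ | rfl
      · rw [← map_mul, hA a ha b hb, map_mul]
      · exact (hxa a ha).symm
      · exact hxa b hb
      · rfl
    have htop : Subgroup.closure ((π '' (A : Set X)) ∪ {π x}) = ⊤ := by
      rw [Subgroup.closure_union, ← MonoidHom.map_closure, Subgroup.closure_eq,
        ← Subgroup.zpowers_eq_closure, ← MonoidHom.map_zpowers, ← Subgroup.map_sup, hgen,
        Subgroup.map_top_of_surjective _ (QuotientGroup.mk'_surjective R)]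
    rw [_root_.commutator, Subgroup.commutator_le]
    intro a _ b _
    refine (QuotientGroup.eq_one_iff _).1 ?_
    show π ⁅a, b⁆ = 1
    rw [map_commutatorElement, commutatorElement_eq_one_iff_mul_comm]
    exact congrArg Subtype.val (hcomm.is_comm.comm ⟨π a, htop ▸ Subgroup.mem_top _⟩
      ⟨π b, htop ▸ Subgroup.mem_top _⟩)
  have h1 := Subgroup.index_dvd_of_le hXR
  rw [hidx] at h1
  have h2 : R.index = f.range.index * A.index := by
    rw [hR, Subgroup.index_map_subtype]
  rw [hAi] at h2
  have h3 : f.range.index = Nat.card f.ker := by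
    have e1 := f.range.index_mul_card
    have e2 := f.ker.index_mul_card
    rw [Subgroup.index_ker] at e2
    have e3 : Nat.card f.range * Nat.card f.ker = Nat.card f.range * f.range.index := by
      rw [e2, mul_comm, e1]
    exact (Nat.eq_of_mul_eq_mul_left Nat.card_pos e3).symm
  rw [h2, h3, sq] at h1
  have h4 := Nat.le_of_dvd (Nat.mul_pos hp.pos hp.pos) h1
  have h5 : Nat.card f.ker ≤ p := Nat.le_of_mul_le_mul_right h4 hp.pos
  rwa [hker, Nat.card_congr (Subgroup.subgroupOfEquivOfLe (inf_le_right : C ⊓ A ≤ A)).toEquiv] at h5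

theorem card_centralizer_eq (hX : IsPGroup p X) (hidx : (commutator X).index = p ^ 2)
    (A : Subgroup X) [A.Normal] (hA : ∀ a ∈ A, ∀ b ∈ A, a * b = b * a) (hAi : A.index = p)
    (hAne : A ≠ ⊥) {x : X} (hx : x ∉ A) :
    Nat.card (Subgroup.centralizer ({x} : Set X)) = p ^ 2 := by
  have hp : p.Prime := Fact.out
  haveI := hX.isNilpotent
  set C := Subgroup.centralizer ({x} : Set X) with hC
  have hle := card_centralizer_inf_le hidx A hA hAi hx
  have hne : C ⊓ A ≠ ⊥ := fun e => by
    refine Cfsg.Agent.Cores.inf_center_ne_bot hAne (le_bot_iff.1 (le_trans ?_ e.le))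
    rintro a ⟨ha, haz⟩
    exact ⟨Subgroup.mem_centralizer_singleton_iff.2 (Subgroup.mem_center_iff.1 haz x).symm, ha⟩
  obtain ⟨j, hj⟩ := (hX.to_subgroup (C ⊓ A)).exists_card_eq
  have hcard : Nat.card (C ⊓ A : Subgroup X) = p := by
    rcases Nat.eq_zero_or_pos j with rfl | hj0
    · exact absurd (Subgroup.card_eq_one.1 (by simpa using hj)) hne
    · refine le_antisymm hle ?_
      rw [hj]
      exact Nat.le_self_pow hj0.ne' p
  have h2 : A.relIndex C = p := by
    have := Subgroup.relIndex_dvd_index_of_normal A C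
    rw [hAi] at this
    rcases (Nat.dvd_prime hp).1 this with h | h
    · exact absurd (Subgroup.relIndex_eq_one.1 h
        (Subgroup.mem_centralizer_singleton_iff.2 rfl)) hx
    · exact h
  have h3 := Subgroup.relIndex_mul_relIndex (⊥ : Subgroup X) (C ⊓ A) C bot_le inf_le_left
  rw [Subgroup.relIndex_bot_left, Subgroup.relIndex_bot_left, inf_comm, Subgroup.inf_relIndex_right,
    h2, inf_comm, hcard] at h3
  rw [← h3, sq]

/-- Two non-trivial normal subgroups splitting the group. -/
theorem comm_of_split (hX : IsPGroup p X) (hidx : (commutator X).index = p ^ 2) (A B : Subgroup X)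
    [A.Normal] [B.Normal] (hA : A ≠ ⊥) (hB : B ≠ ⊥) (hd : A ⊓ B = ⊥) (hs : A ⊔ B = ⊤) :
    ∀ a b : X, a * b = b * a := by
  classical
  have hp : p.Prime := Fact.out
  -- preimages of the derived subgroups of the two quotients
  let R : ∀ (K : Subgroup X) [K.Normal], Subgroup X := fun K _ =>
    (commutator (X ⧸ K)).comap (QuotientGroup.mk' K)
  have hRi : ∀ (K : Subgroup X) [K.Normal], (R K).index = (commutator (X ⧸ K)).index := fun K _ =>
    Subgroup.index_comap_of_surjective _ (QuotientGroup.mk'_surjective K)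
  have hKR : ∀ (K : Subgroup X) [K.Normal], K ≤ R K := fun K _ k hk => by
    show QuotientGroup.mk' K k ∈ commutator (X ⧸ K)
    rw [show QuotientGroup.mk' K k = 1 from (QuotientGroup.eq_one_iff k).2 hk]
    exact one_mem _
  have hcR : ∀ (K : Subgroup X) [K.Normal], commutator X ≤ R K := fun K _ => by
    show commutator X ≤ Subgroup.comap _ _
    rw [← Subgroup.map_le_iff_le_comap, _root_.commutator, Subgroup.map_commutator]
    exact Subgroup.commutator_mono le_top le_top
  haveI : (R A).Normal := Subgroup.Normal.comap inferInstance _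
  have hprod : (R A).index * (R B).index ≤ p ^ 2 := by
    have h1 : (R A).relIndex (R B) = (R A).index := by
      rw [← Subgroup.relIndex_top_right (R A),
        ← top_le_iff.1 (hs ▸ sup_le ((hKR A).trans le_sup_right) ((hKR B).trans le_sup_left) :
          (⊤ : Subgroup X) ≤ R B ⊔ R A), Subgroup.relIndex_sup_right]
    have h2 := Subgroup.relIndex_mul_index (inf_le_right : R A ⊓ R B ≤ R B)
    rw [Subgroup.inf_relIndex_right, h1] at h2
    rw [h2, ← hidx]
    exact Nat.le_of_dvd (Nat.pos_of_ne_zero Subgroup.index_ne_zero_of_finite)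
      (Subgroup.index_dvd_of_le (le_inf (hcR A) (hcR B)))
  have hgt : ∀ (K : Subgroup X) [K.Normal], K ≠ ⊤ → p ≤ (R K).index := by
    intro K _ hK
    rw [hRi]
    haveI := (hX.to_quotient K)
    obtain ⟨j, hj⟩ := ((hX.to_quotient K).to_quotient (commutator (X ⧸ K))).exists_card_eq
    rw [← Subgroup.index_eq_card] at hj
    rcases Nat.eq_zero_or_pos j with rfl | hj0
    · exfalso
      have h1 := comm_of_index_commutator_lt (hX.to_quotient K) (by
        rw [hj, pow_zero]; exact Nat.one_lt_pow two_ne_zero hp.one_lt)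
      rw [h1, Subgroup.index_bot, pow_zero, ← Subgroup.index_eq_card, Subgroup.index_eq_one] at hj
      exact hK hj
    · rw [hj]; exact Nat.le_self_pow hj0.ne' p
  have hAt : A ≠ ⊤ := fun e => hB (by rwa [e, top_inf_eq] at hd)
  have hBt : B ≠ ⊤ := fun e => hA (by rwa [e, inf_top_eq] at hd)
  have hq : ∀ (K : Subgroup X) [K.Normal], (R K).index ≤ p → ∀ a b : X, ⁅a, b⁆ ∈ K := by
    intro K _ hle a b
    rw [hRi] at hle
    have h1 := comm_of_index_commutator_lt (hX.to_quotient K) (lt_of_le_of_lt hle (by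
      rw [sq]; exact lt_mul_of_one_lt_right hp.pos hp.one_lt))
    refine (QuotientGroup.eq_one_iff _).1 ?_
    show QuotientGroup.mk' K ⁅a, b⁆ = 1
    rw [← Subgroup.mem_bot, ← h1, map_commutatorElement]
    exact Subgroup.commutator_mem_commutator (Subgroup.mem_top _) (Subgroup.mem_top _)
  have hA1 : (R A).index ≤ p := by
    refine Nat.le_of_mul_le_mul_right ?_ hp.pos
    calc (R A).index * p ≤ (R A).index * (R B).index := Nat.mul_le_mul_left _ (hgt B hBt)
      _ ≤ p * p := by rw [← sq]; exact hprod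
  have hB1 : (R B).index ≤ p := by
    refine Nat.le_of_mul_le_mul_left ?_ hp.pos
    calc p * (R B).index ≤ (R A).index * (R B).index := Nat.mul_le_mul_right _ (hgt A hAt)
      _ ≤ p * p := by rw [← sq]; exact hprod
  intro a b
  rw [← commutatorElement_eq_one_iff_mul_comm, ← Subgroup.mem_bot, ← hd]
  exact ⟨hq A hA1 a b, hq B hB1 a b⟩

end Cfsg.Agent.BlocksChars.SmallCentralizer
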