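import Cfsg.Agent.BlocksChars.SmallCentralizer.PGroup
import Cfsg.Agent.Lib.Perm.CharSimple
import Cfsg.Agent.Lib.Transfer.Tate
import Cfsg.Agent.Techniques.Sylow
import Cfsg.Agent.GroupStructure3.PronormalOvergroup
import Cfsg.Agent.InvChar.Core
import Cfsg.Prelude.Def_Solvable
import Cfsg.Prelude.Def_Transfer

/-!
# A normal subgroup meeting a Sylow subgroup in an abelian subgroup of index `p`
-/

set_option autoImplicit false
set_option linter.style.haveILetI false

namespace Cfsg.Agent.BlocksChars.SmallCentralizer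

open scoped commutatorElement IsMulCommutative Pointwise
open Cfsg.Agent.Perm.CharSimple

universe u

variable {G : Type u} [Group G] [Finite G] {p : ℕ} [Fact p.Prime]

theorem card_sup_of_disjoint {X : Type*} [Group X] [Finite X] {H K : Subgroup X} [K.Normal]
    (hd : K ⊓ H = ⊥) : Nat.card (H ⊔ K : Subgroup X) = Nat.card K * Nat.card H := by
  have h3 := Subgroup.relIndex_mul_relIndex (⊥ : Subgroup X) K (H ⊔ K) bot_le le_sup_right
  rw [Subgroup.relIndex_bot_left, Subgroup.relIndex_bot_left, Subgroup.relIndex_sup_right,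
    ← Subgroup.inf_relIndex_right, hd, Subgroup.relIndex_bot_left] at h3
  exact h3.symm

theorem mem_sup_commuting {X : Type*} [Group X] {A B : Subgroup X}
    (hAB : ∀ a ∈ A, ∀ b ∈ B, a * b = b * a) {x : X} (hx : x ∈ A ⊔ B) :
    ∃ a ∈ A, ∃ b ∈ B, a * b = x := by
  have hc : ∀ (a : A) (b : B), Commute (A.subtype a) (B.subtype b) := fun a b => hAB a a.2 b b.2
  have h1 : x ∈ (MonoidHom.noncommCoprod A.subtype B.subtype hc).range := by
    rw [MonoidHom.noncommCoprod_range, Subgroup.range_subtype, Subgroup.range_subtype]; exact hx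
  obtain ⟨⟨a, b⟩, h⟩ := h1
  exact ⟨a, a.2, b, b.2, h⟩

/-- In a direct product a Sylow subgroup is the product of its two parts. -/
theorem sylow_decomp {X : Type*} [Group X] [Finite X] (R : Sylow p X) (V C : Subgroup X) [V.Normal]
    [C.Normal] (hd : V ⊓ C = ⊥) (hs : V ⊔ C = ⊤) (hcomm : ∀ a ∈ V, ∀ b ∈ C, a * b = b * a) :
    ∀ r ∈ (R : Subgroup X), ∃ a ∈ (R : Subgroup X) ⊓ V, ∃ b ∈ (R : Subgroup X) ⊓ C, a * b = r := by
  have hsyl : ∀ N : Subgroup X, N.Normal →
      Nat.card ((R : Subgroup X) ⊓ N : Subgroup X) = p ^ (Nat.card N).factorization p := by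
    intro N hN
    haveI := hN
    obtain ⟨Q, hQ⟩ := GroupStructure3.PronormalOvergroup.sylow_inf_normal R N
    rw [← hQ, Subgroup.card_subtype, Q.card_eq_multiplicity]
  set A := (R : Subgroup X) ⊓ V
  set B := (R : Subgroup X) ⊓ C
  have hc : ∀ (a : A) (b : B), Commute (A.subtype a) (B.subtype b) := fun a b =>
    hcomm a a.2.2 b b.2.2
  have hinj : Function.Injective (MonoidHom.noncommCoprod A.subtype B.subtype hc) :=
    MonoidHom.noncommCoprod_injective (f := A.subtype) (g := B.subtype) (comm := hc) |>.2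
      ⟨A.subtype_injective, B.subtype_injective, by
        rw [Subgroup.range_subtype, Subgroup.range_subtype, disjoint_iff, eq_bot_iff, ← hd]
        exact inf_le_inf inf_le_right inf_le_right⟩
  have hcard : Nat.card (MonoidHom.noncommCoprod A.subtype B.subtype hc).range =
      Nat.card (R : Subgroup X) := by
    rw [← Nat.card_congr (MonoidHom.ofInjective hinj).toEquiv, Nat.card_prod, hsyl V inferInstance,
      hsyl C inferInstance, R.card_eq_multiplicity, ← pow_add]
    congr 1
    have h1 := card_sup_of_disjoint (H := V) (K := C) (by rw [inf_comm, hd])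
    rw [hs, Subgroup.card_top] at h1
    rw [h1, Nat.factorization_mul Nat.card_pos.ne' Nat.card_pos.ne', Finsupp.add_apply, add_comm]
  have hle : (MonoidHom.noncommCoprod A.subtype B.subtype hc).range ≤ (R : Subgroup X) := by
    rw [MonoidHom.noncommCoprod_range, Subgroup.range_subtype, Subgroup.range_subtype]
    exact sup_le inf_le_left inf_le_left
  have heq := Subgroup.eq_of_le_of_card_ge hle hcard.ge
  intro r hr
  obtain ⟨⟨a, b⟩, h⟩ := heq.symm ▸ hr
  exact ⟨a, a.2, b, b.2, h⟩

theorem not_le_commutator (P : Sylow p G) (hcore : Cfsg.pPrimeCore p G = ⊥)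
    (hcore' : (⁅(P : Subgroup G), (P : Subgroup G)⁆).normalCore = ⊥) (M : Subgroup G) [M.Normal]
    (hM : M ≠ ⊥) : ¬ M.subgroupOf (P : Subgroup G) ≤ commutator (P : Subgroup G) := by
  intro hle
  haveI := P.2.isNilpotent
  have hfr : M ⊓ (P : Subgroup G) ≤ (frattini (P : Subgroup G)).map (P : Subgroup G).subtype :=
    fun x hx => ⟨⟨x, hx.2⟩, Cfsg.Agent.Coprime.commutator_le_frattini _ (hle hx.1), rfl⟩
  have hK := (Transfer.NormalPComplement.hasNormalPComplement_iff_pResidual (G := M) (p := p)).1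
    (Transfer.Tate.hasNormalPComplement_of_inf_le_frattini P M hfr)
  haveI : (Cfsg.pResidual p M).Characteristic :=
    Subgroup.characteristic_iff_map_le.mpr fun e =>
      Transfer.NormalPComplement.map_pResidual_le e.toMonoidHom
  have hKG : (Cfsg.pResidual p M).map M.subtype = ⊥ := le_bot_iff.1 (hcore ▸
    InvChar.Core.le_pPrimeCore (p := p) inferInstance (by rwa [Subgroup.card_subtype]))
  rw [Subgroup.map_eq_bot_iff_of_injective _ M.subtype_injective] at hKG
  have hMp : IsPGroup p M := by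
    rw [IsPGroup.iff_card]
    refine ⟨(Nat.card M).factorization p, ?_⟩
    by_contra hne
    obtain ⟨q, hq, hqd, hqp⟩ : ∃ q, q.Prime ∧ q ∣ Nat.card M ∧ q ≠ p := by
      by_contra hall
      push Not at hall
      refine hne ?_
      obtain ⟨n, hn⟩ : ∃ n, Nat.card M = p ^ n :=
        ⟨_, Nat.eq_prime_pow_of_unique_prime_dvd Nat.card_pos.ne' (fun {q} hq hd => hall q hq hd)⟩
      rw [hn, Nat.Prime.factorization_pow Fact.out, Finsupp.single_eq_same]
    haveI := Fact.mk hq
    obtain ⟨y, hy⟩ := exists_prime_orderOf_dvd_card' q hqd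
    have h1 : y ∈ Cfsg.pResidual p M :=
      Subgroup.subset_closure (show Nat.Coprime (orderOf y) p from
        hy ▸ (Nat.coprime_primes hq Fact.out).2 hqp)
    rw [hKG, Subgroup.mem_bot] at h1
    rw [h1, orderOf_one] at hy
    exact hq.one_lt.ne hy
  obtain ⟨Q, hQ⟩ := hMp.exists_le_sylow
  obtain ⟨g, rfl⟩ := MulAction.exists_smul_eq G P Q
  have hMP : M ≤ P := fun x hx => by
    have h1 := hQ (Subgroup.Normal.conj_mem inferInstance x hx g)
    rw [Sylow.coe_subgroup_smul, Subgroup.mem_pointwise_smul_iff_inv_smul_mem] at h1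
    simpa [MulAut.smul_def, mul_assoc] using h1
  refine hM (le_bot_iff.1 (hcore' ▸ Subgroup.normal_le_normalCore.2 fun x hx => ?_))
  rw [← Subgroup.map_subtype_commutator]
  exact ⟨⟨x, hMP hx⟩, hle hx, rfl⟩

/-- The main structural fact. -/
theorem exists_normal_abelian (P : Sylow p G)
    (hcore : Cfsg.pPrimeCore p G = ⊥)
    (hcore' : (⁅(P : Subgroup G), (P : Subgroup G)⁆).normalCore = ⊥)
    (hnas : ¬ ∃ S : Subgroup G, S.Normal ∧ IsSimpleGroup S ∧ ¬ IsMulCommutative S ∧
      Subgroup.centralizer (S : Set G) = ⊥)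
    (hidx : (commutator (P : Subgroup G)).index = p ^ 2)
    (hnab : ¬ ∀ a b : (P : Subgroup G), a * b = b * a) :
    ∃ M : Subgroup G, M.Normal ∧ (∀ a ∈ (P : Subgroup G) ⊓ M, ∀ b ∈ (P : Subgroup G) ⊓ M,
      a * b = b * a) ∧ (M.subgroupOf (P : Subgroup G)).index = p := by
  classical
  have hp : p.Prime := Fact.out
  haveI := P.2.isNilpotent
  have hPne : (P : Subgroup G) ≠ ⊥ := fun e => hnab fun a b => by
    haveI : Subsingleton (P : Subgroup G) := (Subgroup.eq_bot_iff_forall _ |>.1 e |> fun h =>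
      ⟨fun a b => Subtype.ext ((h a a.2).trans (h b b.2).symm)⟩)
    exact Subsingleton.elim _ _
  haveI : Nontrivial G := by
    obtain ⟨⟨a, ha⟩, h1⟩ := (Subgroup.ne_bot_iff_exists_ne_one).1 hPne
    exact ⟨⟨a, 1, fun e => h1 (Subtype.ext e)⟩⟩
  obtain ⟨M, hMn, hMne, hMmin⟩ := exists_isMinNormal (X := G)
  haveI := hMn
  set D := M.subgroupOf (P : Subgroup G) with hD
  -- `D` has index `p`, or is everything
  have hDnot := not_le_commutator P hcore hcore' M hMne
  have hDcase : D = ⊤ ∨ D.index = p := by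
    have h1 : (D ⊔ commutator (P : Subgroup G)).index ∣ p ^ 2 :=
      hidx ▸ Subgroup.index_dvd_of_le le_sup_right
    obtain ⟨j, hj, hj'⟩ := (Nat.dvd_prime_pow hp).1 h1
    have hj1 : j ≤ 1 := by
      by_contra h2
      obtain rfl : j = 2 := by omega
      exact hDnot ((le_sup_left : D ≤ D ⊔ commutator (P : Subgroup G)).trans (Subgroup.relIndex_eq_one.1 (by
        have h3 := Subgroup.relIndex_mul_index (le_sup_right : commutator (P : Subgroup G) ≤ D ⊔ commutator (P : Subgroup G))
        rw [hj', hidx] at h3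
        exact Nat.eq_of_mul_eq_mul_right (pow_pos hp.pos 2) (h3.trans (one_mul _).symm))))
    by_cases hDt : D = ⊤
    · exact Or.inl hDt
    refine Or.inr ?_
    set π := QuotientGroup.mk' D with hπ
    have h2 : (commutator ((P : Subgroup G) ⧸ D)).index = p ^ j := by
      rw [← hj', _root_.commutator, ← Subgroup.map_top_of_surjective π (QuotientGroup.mk'_surjective D),
        ← Subgroup.map_commutator, Subgroup.index_map, QuotientGroup.ker_mk',
        MonoidHom.range_eq_top.2 (QuotientGroup.mk'_surjective D), Subgroup.index_top, mul_one,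
        sup_comm]
      rfl
    have h3 := comm_of_index_commutator_lt (P.2.to_quotient D) (by
      rw [h2]; exact Nat.pow_lt_pow_right hp.one_lt (by omega))
    rw [h3, Subgroup.index_bot, ← Subgroup.index_eq_card] at h2
    rcases (by omega : j = 0 ∨ j = 1) with rfl | rfl
    · exact absurd (Subgroup.index_eq_one.1 (h2.trans (pow_zero p))) hDt
    · exact h2.trans (pow_one p)
  by_cases hMab : ∀ a ∈ M, ∀ b ∈ M, a * b = b * a
  · rcases hDcase with h | h
    · exact absurd (fun a b : (P : Subgroup G) => Subtype.ext (hMab _ (h ▸ Subgroup.mem_top a : a ∈ D)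
        _ (h ▸ Subgroup.mem_top b : b ∈ D))) hnab
    · exact ⟨M, hMn, fun a ha b hb => hMab a ha.2 b hb.2, h⟩
  -- the centralizer of `M`
  have hZM : ∀ a : M, (∀ b : M, a * b = b * a) → a = 1 := by
    intro a ha
    have hz : (Subgroup.center M).map M.subtype = ⊥ := by
      refine (hMmin _ inferInstance (Subgroup.map_subtype_le _)).resolve_right fun h => hMab ?_
      intro u hu v hv
      obtain ⟨u', hu', rfl⟩ := h.symm ▸ hu
      exact congrArg Subtype.val (Subgroup.mem_center_iff.1 hu' ⟨v, hv⟩).symm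
    rw [Subgroup.map_eq_bot_iff_of_injective _ M.subtype_injective] at hz
    rw [← Subgroup.mem_bot, ← hz, Subgroup.mem_center_iff]
    exact fun b => (ha b).symm
  have hCG : Subgroup.centralizer (M : Set G) = ⊥ := by
    set CG := Subgroup.centralizer (M : Set G) with hCGdef
    have hMC : M ⊓ CG = ⊥ := (Subgroup.eq_bot_iff_forall _).2 fun a ha =>
      congrArg Subtype.val (hZM ⟨a, ha.1⟩ fun b =>
        Subtype.ext (Subgroup.mem_centralizer_iff.1 ha.2 b b.2).symm)
    have hPC : (P : Subgroup G) ⊓ CG = ⊥ := by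
      by_contra hne
      set B := CG.subgroupOf (P : Subgroup G) with hB
      have hBne : B ≠ ⊥ := by
        rw [hB, Ne, Subgroup.subgroupOf_eq_bot, disjoint_comm, disjoint_iff]
        exact hne
      have hdB : D ⊓ B = ⊥ := by
        rw [hD, hB, Subgroup.eq_bot_iff_forall]
        rintro a ⟨ha, hb⟩
        exact Subtype.ext ((Subgroup.eq_bot_iff_forall _).1 hMC _ ⟨ha, hb⟩)
      have hDne : D ≠ ⊥ := fun e => hDnot (by rw [← hD, e]; exact bot_le)
      refine hnab (comm_of_split P.2 hidx D B hDne hBne hdB ?_)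
      rcases hDcase with h | h
      · rw [h, top_sup_eq]
      · rw [← Subgroup.index_eq_one]
        have h1 := Subgroup.relIndex_mul_index (le_sup_left : D ≤ D ⊔ B)
        rw [h] at h1
        rcases (Nat.dvd_prime hp).1 ⟨_, (mul_comm _ _).trans h1 |>.symm⟩ with h2 | h2
        · exact h2
        · exfalso
          rw [h2] at h1
          have h3 : D.relIndex (D ⊔ B) = 1 := by
            have := hp.pos
            nlinarith
          have h4 : B ≤ D := le_sup_right.trans (Subgroup.relIndex_eq_one.1 h3)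
          exact hBne (by rw [← inf_eq_right.2 h4, hdB])
    refine le_bot_iff.1 (hcore ▸ InvChar.Core.le_pPrimeCore (p := p) inferInstance ?_)
    have h1 := Techniques.not_dvd_relIndex_of_normal P CG
    rw [hPC, Subgroup.relIndex_bot_left] at h1
    exact ((hp.coprime_iff_not_dvd).2 h1).symm
  have hMns : ¬ IsSimpleGroup M := fun h => hnas ⟨M, hMn, h, fun hc => hMab fun a ha b hb =>
    congrArg Subtype.val (hc.is_comm.comm (⟨a, ha⟩ : M) ⟨b, hb⟩), hCG⟩
  -- the minimal normal subgroups of `M`
  haveI : Nontrivial M := (Subgroup.nontrivial_iff_ne_bot M).2 hMne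
  have hinvtop : ∀ K : Subgroup M, (∀ g : G, K.map (MulAut.conjNormal g : MulAut M).toMonoidHom ≤ K) →
      K = ⊥ ∨ K = ⊤ := by
    intro K hK
    have hn : (K.map M.subtype).Normal := by
      refine ⟨?_⟩
      rintro _ ⟨k, hk, rfl⟩ g
      exact ⟨_, hK g ⟨k, hk, rfl⟩, MulAut.conjNormal_apply g k⟩
    rcases hMmin _ hn (Subgroup.map_subtype_le K) with h | h
    · exact Or.inl ((Subgroup.map_eq_bot_iff_of_injective K M.subtype_injective).1 h)
    · refine Or.inr (Subgroup.map_injective M.subtype_injective ?_)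
      rw [h, ← MonoidHom.range_eq_map, Subgroup.range_subtype]
  have htop : sSup {V : Subgroup M | IsMinNormal V} = ⊤ := by
    obtain ⟨V0, hV0⟩ := exists_isMinNormal (X := M)
    refine (hinvtop _ fun g => ?_).resolve_left fun e => hV0.2.1 (le_bot_iff.1 (e ▸ le_sSup hV0))
    rw [Subgroup.map_le_iff_le_comap]
    refine sSup_le fun V hV => ?_
    rw [← Subgroup.map_le_iff_le_comap]
    exact le_sSup (hV.map _)
  have hcen : ∀ V W : Subgroup M, IsMinNormal V → IsMinNormal W → W ≠ V →
      W ≤ Subgroup.centralizer (V : Set M) := fun V W hV hW hne x hx =>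
    Subgroup.mem_centralizer_iff.2 fun v hv => (hV.commute hW (Ne.symm hne) v x hv hx).eq
  have hnonab : ∀ V : Subgroup M, IsMinNormal V → V ⊓ Subgroup.centralizer (V : Set M) = ⊥ := by
    intro V hV
    haveI := hV.1
    refine (hV.2.2 _ inferInstance inf_le_left).resolve_right fun h => hV.2.1 ?_
    rw [Subgroup.eq_bot_iff_forall]
    intro v hv
    refine hZM v fun b => ?_
    suffices hall : (⊤ : Subgroup M) ≤ Subgroup.centralizer {v} from
      (Subgroup.mem_centralizer_singleton_iff.1 (hall (Subgroup.mem_top b))).symm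
    rw [← htop]
    refine sSup_le fun W hW x hx => Subgroup.mem_centralizer_singleton_iff.2 ?_
    by_cases hWV : W = V
    · exact Subgroup.mem_centralizer_iff.1 (inf_eq_left.1 h hv) x (hWV ▸ hx)
    · exact (Subgroup.mem_centralizer_iff.1 (hcen V W hV hW hWV hx) v hv).symm
  have hsplit : ∀ V : Subgroup M, IsMinNormal V → V ⊔ Subgroup.centralizer (V : Set M) = ⊤ := by
    intro V hV
    rw [← top_le_iff, ← htop]
    refine sSup_le fun W hW => ?_
    by_cases hWV : W = V
    · exact hWV ▸ le_sup_left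
    · exact (hcen V W hV hW hWV).trans le_sup_right
  have hpdvd : ∀ V : Subgroup M, IsMinNormal V → p ∣ Nat.card V := by
    intro V hV
    by_contra hnd
    haveI := InvChar.Core.pPrimeCore_characteristic (G := M) p
    have h1 : V ≤ Cfsg.pPrimeCore p M :=
      InvChar.Core.le_pPrimeCore (p := p) hV.1 ((hp.coprime_iff_not_dvd).2 hnd).symm
    have h2 : (Cfsg.pPrimeCore p M).map M.subtype = ⊥ := le_bot_iff.1 (hcore ▸
      InvChar.Core.le_pPrimeCore (p := p) inferInstance
        (by rw [Subgroup.card_subtype]; exact InvChar.Core.coprime_card_pPrimeCore p))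
    rw [Subgroup.map_eq_bot_iff_of_injective _ M.subtype_injective] at h2
    exact hV.2.1 (le_bot_iff.1 (h2 ▸ h1))
  -- inside `P`
  obtain ⟨R, hR⟩ := GroupStructure3.PronormalOvergroup.sylow_inf_normal P M
  let Qv : Subgroup M → Subgroup (P : Subgroup G) := fun V =>
    (V.map M.subtype).subgroupOf (P : Subgroup G)
  have hQv : ∀ (V : Subgroup M) (x : (P : Subgroup G)) (hx : (x : G) ∈ M),
      x ∈ Qv V ↔ (⟨x, hx⟩ : M) ∈ V := fun V x hx => by
    refine ⟨?_, fun h => ⟨_, h, rfl⟩⟩
    rintro ⟨v, hv, hvx⟩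
    obtain rfl : v = ⟨x, hx⟩ := Subtype.ext hvx
    exact hv
  have hQvD : ∀ V, Qv V ≤ D := fun V x ⟨v, _, hvx⟩ => by
    show (x : G) ∈ M
    exact (show (v : G) = x from hvx) ▸ v.2
  have hRP : ∀ {y : M}, y ∈ (R : Subgroup M) → (y : G) ∈ (P : Subgroup G) := fun {y} hy =>
    (show (y : G) ∈ (P : Subgroup G) ⊓ M from hR ▸ ⟨y, hy, rfl⟩).1
  have hdec : ∀ V : Subgroup M, IsMinNormal V →
      (Qv V ≠ ⊥ ∧ Qv (Subgroup.centralizer (V : Set M)) ≠ ⊥) ∧
      D = Qv V ⊔ Qv (Subgroup.centralizer (V : Set M)) ∧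
      Qv V ⊓ Qv (Subgroup.centralizer (V : Set M)) = ⊥ ∧
      ∀ a ∈ Qv V, ∀ b ∈ Qv (Subgroup.centralizer (V : Set M)), a * b = b * a := by
    intro V hV
    haveI := hV.1
    have hne : ∀ W : Subgroup M, W.Normal → p ∣ Nat.card W → Qv W ≠ ⊥ := by
      intro W hW hdvd e
      haveI := hW
      refine Techniques.not_dvd_relIndex_of_normal R W ?_
      have h1 : (R : Subgroup M) ⊓ W = ⊥ := (Subgroup.eq_bot_iff_forall _).2 fun y hy => by
        have h2 := (Subgroup.eq_bot_iff_forall _).1 e ⟨y, hRP hy.1⟩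
          ((hQv W _ y.2).2 hy.2)
        exact Subtype.ext (congrArg Subtype.val h2 :)
      rwa [h1, Subgroup.relIndex_bot_left]
    refine ⟨⟨hne V hV.1 (hpdvd V hV), hne _ inferInstance ?_⟩, ?_, ?_, ?_⟩
    · obtain ⟨W, hW, hWV⟩ : ∃ W, IsMinNormal W ∧ W ≠ V := by
        by_contra hall
        push Not at hall
        refine hMns ?_
        have hVt : V = ⊤ := by
          rw [← top_le_iff, ← htop]
          exact sSup_le fun W hW => (hall W hW).le
        refine { eq_bot_or_eq_top_of_normal := fun K hK => ?_ }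
        rw [← hVt]
        exact hV.2.2 K hK (hVt ▸ le_top)
      exact (hpdvd W hW).trans (Subgroup.card_dvd_of_le (hcen V W hV hW hWV))
    · refine le_antisymm ?_ (sup_le (hQvD _) (hQvD _))
      intro x hx
      have hxR : (⟨x, hx⟩ : M) ∈ (R : Subgroup M) := by
        obtain ⟨y, hy, hyx⟩ : (x : G) ∈ (R : Subgroup M).map M.subtype := by rw [hR]; exact ⟨x.2, hx⟩
        obtain rfl : y = ⟨x, hx⟩ := Subtype.ext hyx
        exact hy
      obtain ⟨a, ha, b, hb, hab⟩ := sylow_decomp R V (Subgroup.centralizer (V : Set M)) (hnonab V hV)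
        (hsplit V hV) (fun a ha b hb => Subgroup.mem_centralizer_iff.1 hb a ha) _ hxR
      have hxe : x = (⟨a, hRP ha.1⟩ : (P : Subgroup G)) * ⟨b, hRP hb.1⟩ :=
        Subtype.ext (congrArg Subtype.val hab).symm
      rw [hxe]
      exact mul_mem (Subgroup.mem_sup_left ((hQv V _ a.2).2 ha.2))
        (Subgroup.mem_sup_right ((hQv _ _ b.2).2 hb.2))
    · rw [Subgroup.eq_bot_iff_forall]
      rintro a ⟨ha, hb⟩
      have hm : (a : G) ∈ M := hQvD V ha
      exact Subtype.ext (congrArg Subtype.val ((Subgroup.eq_bot_iff_forall _).1 (hnonab V hV) _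
        ⟨(hQv V a hm).1 ha, (hQv _ a hm).1 hb⟩) :)
    · intro a ha b hb
      have h1 := Subgroup.mem_centralizer_iff.1 ((hQv _ b (hQvD _ hb)).1 hb) _
        ((hQv V a (hQvD V ha)).1 ha)
      exact Subtype.ext (congrArg Subtype.val h1 :)
  -- both factors give the derived subgroup of `D`
  have hD1 : ∀ V : Subgroup M, IsMinNormal V → ⁅D, D⁆ ≤ ⁅Qv V, Qv V⁆ ⊔
      ⁅Qv (Subgroup.centralizer (V : Set M)), Qv (Subgroup.centralizer (V : Set M))⁆ := by
    intro V hV
    obtain ⟨-, hDe, -, hcm⟩ := hdec V hV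
    set A := Qv V
    set B := Qv (Subgroup.centralizer (V : Set M))
    rw [Subgroup.commutator_le]
    intro x hx y hy
    obtain ⟨a, ha, b, hb, rfl⟩ := mem_sup_commuting hcm (hDe ▸ hx)
    obtain ⟨a', ha', b', hb', rfl⟩ := mem_sup_commuting hcm (hDe ▸ hy)
    have e1 : ⁅a * b, a' * b'⁆ = ⁅a, a'⁆ * ⁅b, b'⁆ := by
      simp only [commutatorElement_def, mul_inv_rev]
      calc a * b * (a' * b') * (b⁻¹ * a⁻¹) * (b'⁻¹ * a'⁻¹)
          = a * (b * a') * b' * b⁻¹ * a⁻¹ * b'⁻¹ * a'⁻¹ := by group
        _ = a * a' * ((b * b' * b⁻¹) * a⁻¹) * b'⁻¹ * a'⁻¹ := by rw [← hcm a' ha' b hb]; group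
        _ = a * a' * a⁻¹ * ((b * b' * b⁻¹ * b'⁻¹) * a'⁻¹) := by
            rw [← hcm a⁻¹ (inv_mem ha) _ (mul_mem (mul_mem hb hb') (inv_mem hb))]; group
        _ = a * a' * a⁻¹ * a'⁻¹ * (b * b' * b⁻¹ * b'⁻¹) := by
            rw [← hcm a'⁻¹ (inv_mem ha') _
              (mul_mem (mul_mem (mul_mem hb hb') (inv_mem hb)) (inv_mem hb'))]
            group
    rw [e1]
    exact mul_mem (Subgroup.mem_sup_left (Subgroup.commutator_mem_commutator ha ha'))
      (Subgroup.mem_sup_right (Subgroup.commutator_mem_commutator hb hb'))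
  -- uniqueness of the components
  have huniq : ∀ V : Subgroup M, IsMinNormal V → ∀ a ∈ Qv V, ∀ b ∈ Qv (Subgroup.centralizer
      (V : Set M)), a * b ∈ ⁅D, D⁆ → a ∈ ⁅Qv V, Qv V⁆ ∧
      b ∈ ⁅Qv (Subgroup.centralizer (V : Set M)), Qv (Subgroup.centralizer (V : Set M))⁆ := by
    intro V hV a ha b hb hab
    obtain ⟨-, -, hd, hcm⟩ := hdec V hV
    have hA : ⁅Qv V, Qv V⁆ ≤ Qv V := Subgroup.commutator_le_self _
    have hB := Subgroup.commutator_le_self (Qv (Subgroup.centralizer (V : Set M)))
    obtain ⟨a', ha', b', hb', he⟩ := mem_sup_commuting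
      (fun u hu v hv => hcm u (hA hu) v (hB hv)) (hD1 V hV hab)
    have h1 : a'⁻¹ * a = b' * b⁻¹ := by
      rw [inv_mul_eq_iff_eq_mul, ← mul_assoc, he, mul_inv_cancel_right]
    have h2 := (Subgroup.eq_bot_iff_forall _).1 hd (a'⁻¹ * a)
      (Subgroup.mem_inf.2 ⟨mul_mem (inv_mem (hA ha')) ha, by rw [h1]; exact mul_mem (hB hb') (inv_mem hb)⟩)
    rw [inv_mul_eq_one] at h2
    subst h2
    exact ⟨ha', (mul_left_cancel he) ▸ hb'⟩
  rcases hDcase with hDtop | hDi
  · exfalso
    obtain ⟨V, hV⟩ := exists_isMinNormal (X := M)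
    obtain ⟨⟨h1, h2⟩, hDe, hd, hcm⟩ := hdec V hV
    have hnorm : ∀ (W : Subgroup M), W.Normal → (Qv W).Normal := fun W hW => ⟨fun a ha g => by
      have hg : (g : G) ∈ M := (hDtop ▸ Subgroup.mem_top g : g ∈ D)
      have hm : (a : G) ∈ M := hQvD W ha
      refine (hQv W _ (mul_mem (mul_mem hg hm) (inv_mem hg) : ((g * a * g⁻¹ : (P : Subgroup G)) : G) ∈ M)).2 ?_
      exact hW.conj_mem _ ((hQv W a hm).1 ha) ⟨g, hg⟩⟩
    haveI := hnorm V hV.1
    haveI := hV.1
    haveI := hnorm (Subgroup.centralizer (V : Set M)) inferInstance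
    exact hnab (comm_of_split P.2 hidx _ _ h1 h2 hd (hDe.symm.trans hDtop))
  refine ⟨M, hMn, ?_, hDi⟩
  haveI : D.Normal := Subgroup.normal_subgroupOf
  -- the quotient by the derived subgroup of `D`
  set D1 := ⁅D, D⁆ with hD1def
  set π := QuotientGroup.mk' D1 with hπ
  set Dq := D.map π with hDq
  haveI : Dq.Normal := Subgroup.Normal.map inferInstance _ (QuotientGroup.mk'_surjective D1)
  have hD1D : D1 ≤ D := Subgroup.commutator_le_self D
  have hDqc : ∀ a ∈ Dq, ∀ b ∈ Dq, a * b = b * a := by
    rintro _ ⟨a, ha, rfl⟩ _ ⟨b, hb, rfl⟩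
    rw [← commutatorElement_eq_one_iff_mul_comm, ← map_commutatorElement]
    exact (QuotientGroup.eq_one_iff _).2 (Subgroup.commutator_mem_commutator ha hb)
  have hDqi : Dq.index = p := by
    rw [hDq, Subgroup.index_map, QuotientGroup.ker_mk', sup_eq_left.2 hD1D,
      MonoidHom.range_eq_top.2 (QuotientGroup.mk'_surjective D1), Subgroup.index_top, mul_one, hDi]
  have hqidx : (commutator ((P : Subgroup G) ⧸ D1)).index = p ^ 2 := by
    rw [← hidx, _root_.commutator, ← Subgroup.map_top_of_surjective π (QuotientGroup.mk'_surjective D1),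
      ← Subgroup.map_commutator, Subgroup.index_map, QuotientGroup.ker_mk',
      sup_eq_left.2 (Subgroup.commutator_mono le_top le_top),
      MonoidHom.range_eq_top.2 (QuotientGroup.mk'_surjective D1), Subgroup.index_top, mul_one]
    rfl
  have hout : ∀ x : (P : Subgroup G), x ∉ D → π x ∉ Dq := by
    intro x hx hc
    obtain ⟨d, hd, hdx⟩ := hc
    refine hx ?_
    have h1 : d⁻¹ * x ∈ D1 := QuotientGroup.eq.1 hdx
    simpa using mul_mem hd (hD1D h1)
  -- every component is abelian
  have hkey : ∀ V : Subgroup M, IsMinNormal V → ⁅Qv V, Qv V⁆ = ⊥ := by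
    intro V hV
    haveI := hV.1
    obtain ⟨⟨hA0, hB0⟩, hDe, hd, hcm⟩ := hdec V hV
    set A := Qv V
    set B := Qv (Subgroup.centralizer (V : Set M))
    have hne : ∀ (K : Subgroup (P : Subgroup G)), K ≠ ⊥ → ¬ K ≤ ⁅K, K⁆ := fun K hK hle => by
      haveI : Group.IsNilpotent K := inferInstance
      refine hK (Subgroup.card_eq_one.1 ?_)
      have h1 : (⊥ : Subgroup (P : Subgroup G)) = K :=
        Cfsg.Agent.Coprime.eq_of_le_of_sup_commutator_eq bot_le
          (by rw [bot_sup_eq]; exact le_antisymm (Subgroup.commutator_le_self K) hle)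
      rw [← h1, Subgroup.card_bot]
    by_cases hstab : ∀ (g : (P : Subgroup G)) (v : M), v ∈ V →
        (MulAut.conjNormal (g : G) v : M) ∈ V
    · -- both components are normal in `P`: impossible
      exfalso
      have hAn : A.Normal := ⟨fun a ha g => by
        have hm : (a : G) ∈ M := hQvD V ha
        exact ⟨_, hstab g _ ((hQv V a hm).1 ha), MulAut.conjNormal_apply _ _⟩⟩
      have hBn : B.Normal := ⟨fun b hb g => by
        have hm : (b : G) ∈ M := hQvD _ hb
        refine ⟨MulAut.conjNormal (g : G) ⟨b, hm⟩, ?_, MulAut.conjNormal_apply _ _⟩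
        refine Subgroup.mem_centralizer_iff.2 fun v hv => ?_
        have h1 := Subgroup.mem_centralizer_iff.1 ((hQv _ b hm).1 hb) _ (hstab g⁻¹ v hv)
        have h2 := congrArg (MulAut.conjNormal (g : G) : MulAut M) h1
        simpa [map_mul] using h2⟩
      obtain ⟨x, hx⟩ : ∃ x, x ∉ D := by
        by_contra hall
        push Not at hall
        rw [(eq_top_iff.2 fun g _ => hall g : D = ⊤), Subgroup.index_top] at hDi
        exact hp.ne_one hDi.symm
      have hle := card_centralizer_inf_le hqidx Dq hDqc hDqi (hout x hx)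
      set C := Subgroup.centralizer ({π x} : Set ((P : Subgroup G) ⧸ D1)) ⊓ Dq with hCdef
      haveI : Group.IsNilpotent ((P : Subgroup G) ⧸ D1) := inferInstance
      have hmeet : ∀ K : Subgroup (P : Subgroup G), K.Normal → K ≤ D → ¬ K ≤ D1 →
          K.map π ⊓ C ≠ ⊥ := by
        intro K hK hKD hKn e
        haveI := hK.map π (QuotientGroup.mk'_surjective D1)
        refine Cfsg.Agent.Cores.inf_center_ne_bot (N := K.map π) (fun h => hKn ?_)
          (le_bot_iff.1 (le_trans ?_ e.le))
        · rw [Subgroup.map_eq_bot_iff, QuotientGroup.ker_mk'] at h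
          exact h
        · rintro z ⟨hz, hzc⟩
          exact ⟨hz, Subgroup.mem_centralizer_singleton_iff.2
            (Subgroup.mem_center_iff.1 hzc (π x)).symm, Subgroup.map_mono hKD hz⟩
      have hA1 : ¬ A ≤ D1 := fun h => hne A hA0 fun a ha =>
        (huniq V hV a ha 1 (one_mem _) (by rw [mul_one]; exact h ha)).1
      have hB1 : ¬ B ≤ D1 := fun h => hne B hB0 fun b hb =>
        (huniq V hV 1 (one_mem _) b hb (by rw [one_mul]; exact h hb)).2
      obtain ⟨⟨za, hza, hzaC⟩, hza1⟩ := (Subgroup.ne_bot_iff_exists_ne_one).1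
        (hmeet A hAn (hQvD _) hA1)
      obtain ⟨⟨zb, hzb, hzbC⟩, hzb1⟩ := (Subgroup.ne_bot_iff_exists_ne_one).1
        (hmeet B hBn (hQvD _) hB1)
      have hza1' : za ≠ 1 := fun e => hza1 (Subtype.ext e)
      have hzb1' : zb ≠ 1 := fun e => hzb1 (Subtype.ext e)
      obtain ⟨j, hj⟩ := ((P.2.to_quotient D1).to_subgroup C).exists_card_eq
      have hj1 : Nat.card C = p := by
        rcases Nat.eq_zero_or_pos j with rfl | hj0
        · exact absurd ((Subgroup.eq_bot_iff_forall _).1 (Subgroup.card_eq_one.1 (by simpa using hj))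
            za hzaC) hza1'
        · exact le_antisymm hle (hj ▸ Nat.le_self_pow hj0.ne' p)
      have hgen : Subgroup.zpowers (⟨za, hzaC⟩ : C) = ⊤ :=
        zpowers_eq_top_of_prime_card hj1 fun e => hza1' (congrArg Subtype.val e)
      obtain ⟨i, hi⟩ := Subgroup.mem_zpowers_iff.1
        (hgen ▸ Subgroup.mem_top (⟨zb, hzbC⟩ : C) : (⟨zb, hzbC⟩ : C) ∈ Subgroup.zpowers _)
      have hzba : zb ∈ A.map π := by
        have h1 := (A.map π).zpow_mem hza i
        rwa [show za ^ i = zb from congrArg Subtype.val hi] at h1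
      obtain ⟨a, ha, rfl⟩ := hzba
      obtain ⟨b, hb, hbe⟩ := hzb
      have h1 : a⁻¹ * b ∈ D1 := QuotientGroup.eq.1 hbe.symm
      obtain ⟨h2, -⟩ := huniq V hV a⁻¹ (inv_mem ha) b hb h1
      refine hzb1' ((QuotientGroup.eq_one_iff a).2 ?_)
      have h3 : a⁻¹ ∈ D1 := Subgroup.commutator_mono (hQvD _) (hQvD _) h2
      simpa using inv_mem h3
    · push Not at hstab
      obtain ⟨x, v0, hv0, hxv⟩ := hstab
      let N : Subgroup (P : Subgroup G) :=
        { carrier := {g | V.map (MulAut.conjNormal (g : G) : MulAut M).toMonoidHom = V}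
          one_mem' := by
            show V.map (MulAut.conjNormal ((1 : (P : Subgroup G)) : G) : MulAut M).toMonoidHom = V
            convert Subgroup.map_id V using 2
            ext m
            simp
          mul_mem' := fun {a b} (ha : _ = V) (hb : _ = V) => by
            show V.map (MulAut.conjNormal ((a * b : (P : Subgroup G)) : G) : MulAut M).toMonoidHom = V
            rw [show (MulAut.conjNormal ((a * b : (P : Subgroup G)) : G) : MulAut M).toMonoidHom =
              (MulAut.conjNormal (a : G) : MulAut M).toMonoidHom.comp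
                (MulAut.conjNormal (b : G) : MulAut M).toMonoidHom from
                MonoidHom.ext fun m => Subtype.ext (by simp [mul_assoc]), ← Subgroup.map_map, hb, ha]
          inv_mem' := fun {a} (ha : _ = V) => by
            show V.map (MulAut.conjNormal ((a⁻¹ : (P : Subgroup G)) : G) : MulAut M).toMonoidHom = V
            conv_lhs => rw [← ha]
            rw [Subgroup.map_map]
            convert Subgroup.map_id V using 2
            ext m
            simp }
      have hDN : D ≤ N := fun d hd => by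
        show V.map (MulAut.conjNormal (d : G) : MulAut M).toMonoidHom = V
        refine Subgroup.eq_of_le_of_card_ge ?_ ?_
        · rintro _ ⟨v, hv, rfl⟩
          have h1 : (MulAut.conjNormal (d : G) v : M) = ⟨d, hd⟩ * v * (⟨d, hd⟩ : M)⁻¹ :=
            Subtype.ext (by simp)
          show MulAut.conjNormal (d : G) v ∈ V
          rw [h1]
          exact hV.1.conj_mem v hv _
        · exact (Nat.card_congr (Subgroup.equivMapOfInjective V _
            (MulEquiv.injective _)).toEquiv).le
      have hxN : x ∉ N := fun h => hxv (h ▸ ⟨v0, hv0, rfl⟩)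
      have hNt : N = D := by
        have h1 := Subgroup.index_dvd_of_le hDN
        rw [hDi] at h1
        rcases (Nat.dvd_prime hp).1 h1 with h2 | h2
        · exact absurd (Subgroup.index_eq_one.1 h2 ▸ Subgroup.mem_top x) hxN
        · refine (le_antisymm hDN (Subgroup.relIndex_eq_one.1 ?_)).symm
          have h3 := Subgroup.relIndex_mul_index hDN
          rw [h2, hDi] at h3
          exact Nat.eq_of_mul_eq_mul_right hp.pos (h3.trans (one_mul p).symm)
      have hxD : x ∉ D := hNt ▸ hxN
      have hmoved : ∀ a ∈ A, ∀ t : ℕ, 0 < t → t < p → x ^ t * a * (x ^ t)⁻¹ ∈ B := by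
        intro a ha t ht0 htp
        have hm : (a : G) ∈ M := hQvD V ha
        have hW : IsMinNormal (V.map (MulAut.conjNormal ((x ^ t : (P : Subgroup G)) : G) :
            MulAut M).toMonoidHom) := hV.map _
        have hWne : V.map (MulAut.conjNormal ((x ^ t : (P : Subgroup G)) : G) :
            MulAut M).toMonoidHom ≠ V := by
          intro h
          have h1 : x ^ t ∈ D := hNt ▸ h
          have h2 : x ^ p ∈ D := by
            have h3 := Subgroup.pow_index_mem D x
            rwa [hDi] at h3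
          have hg : x ^ Nat.gcd t p ∈ D := by
            rw [← zpow_natCast, Nat.gcd_eq_gcd_ab, zpow_add, zpow_mul, zpow_mul, zpow_natCast,
              zpow_natCast]
            exact mul_mem (D.zpow_mem h1 _) (D.zpow_mem h2 _)
          rw [((hp.coprime_iff_not_dvd.2 (Nat.not_dvd_of_pos_of_lt ht0 htp)).symm :
            Nat.gcd t p = 1), pow_one] at hg
          exact hxD hg
        refine ⟨MulAut.conjNormal ((x ^ t : (P : Subgroup G)) : G) ⟨a, hm⟩,
          hcen V _ hV hW hWne ⟨_, (hQv V a hm).1 ha, rfl⟩, MulAut.conjNormal_apply _ _⟩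
      -- the norm map
      haveI : IsMulCommutative Dq := ⟨⟨fun a b => Subtype.ext (hDqc a a.2 b b.2)⟩⟩
      let h' : ℕ → A → Dq := fun t a =>
        ⟨π (x ^ t * a * (x ^ t)⁻¹), Subgroup.mem_map_of_mem _
          (Subgroup.Normal.conj_mem inferInstance _ (hQvD V a.2) _)⟩
      let ν : A →* Dq := MonoidHom.mk' (fun a => ∏ t ∈ Finset.range p, h' t a) fun a b => by
        rw [← Finset.prod_mul_distrib]
        refine Finset.prod_congr rfl fun t _ => Subtype.ext ?_
        show π _ = π _ * π _
        rw [← map_mul]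
        congr 1
        simp [mul_assoc]
      have hxp : x ^ p ∈ D := by
        have h1 := Subgroup.pow_index_mem D x
        rwa [hDi] at h1
      have hle := card_centralizer_inf_le hqidx Dq hDqc hDqi (hout x hxD)
      have hfix : ∀ a : A, π x * (ν a : (P : Subgroup G) ⧸ D1) = (ν a : (P : Subgroup G) ⧸ D1) * π x := by
        intro a
        let c : Dq →* Dq := MonoidHom.mk' (fun d => ⟨π x * d * (π x)⁻¹,
          Subgroup.Normal.conj_mem inferInstance _ d.2 _⟩) fun d e => Subtype.ext (by simp [mul_assoc])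
        have h1 : ∀ t, c (h' t a) = h' (t + 1) a := fun t => Subtype.ext (by
          show π x * π (x ^ t * a * (x ^ t)⁻¹) * (π x)⁻¹ = π (x ^ (t + 1) * a * (x ^ (t + 1))⁻¹)
          rw [← map_inv, ← map_mul, ← map_mul]
          congr 1
          rw [pow_succ']; group)
        have h2 : h' p a = h' 0 a := Subtype.ext (by
          show π (x ^ p * a * (x ^ p)⁻¹) = π (x ^ 0 * a * (x ^ 0)⁻¹)
          rw [map_mul, map_mul, hDqc _ (Subgroup.mem_map_of_mem π hxp) _
            (Subgroup.mem_map_of_mem π (hQvD V a.2)), mul_assoc, ← map_mul π (x ^ p),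
            mul_inv_cancel, map_one, mul_one]
          simp)
        have h3 : c (ν a) = ν a := by
          show c (∏ t ∈ Finset.range p, h' t a) = ∏ t ∈ Finset.range p, h' t a
          rw [map_prod, Finset.prod_congr rfl fun t _ => h1 t]
          have h4 := Finset.prod_range_succ' (fun t => h' t a) p
          rw [Finset.prod_range_succ, h2] at h4
          exact (mul_right_cancel h4).symm
        exact mul_inv_eq_iff_eq_mul.1 (congrArg Subtype.val h3)
      have hker : ν.ker ≤ commutator A := by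
        intro a ha
        rw [MonoidHom.mem_ker] at ha
        set Bq := (B.map π).subgroupOf Dq with hBq
        have h1 : ∏ t ∈ Finset.range (p - 1), h' (t + 1) a ∈ Bq :=
          Subgroup.prod_mem _ fun t ht => Subgroup.mem_map_of_mem π
            (hmoved a a.2 (t + 1) (Nat.succ_pos t) (by
              have := Finset.mem_range.1 ht; omega))
        obtain ⟨b, hb, hbe⟩ := Subgroup.mem_subgroupOf.1 h1
        have h2 : ν a = (∏ t ∈ Finset.range (p - 1), h' (t + 1) a) * h' 0 a := by
          show ∏ t ∈ Finset.range p, h' t a = _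
          rw [← Finset.prod_range_succ' (fun t => h' t a) (p - 1),
            Nat.sub_add_cancel hp.pos]
        have h3 := congrArg Subtype.val (h2.symm.trans ha)
        rw [Subgroup.coe_mul, ← hbe, OneMemClass.coe_one] at h3
        change π b * π (x ^ 0 * a * (x ^ 0)⁻¹) = 1 at h3
        rw [pow_zero, one_mul, inv_one, mul_one, ← map_mul] at h3
        have h4 : (a : (P : Subgroup G)) * b ∈ D1 := by
          rw [hcm a a.2 b hb]; exact (QuotientGroup.eq_one_iff _).1 h3
        have h5 := (huniq V hV a a.2 b hb h4).1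
        rw [← Subgroup.map_subtype_commutator] at h5
        obtain ⟨y, hy, hye⟩ := h5
        exact Subtype.ext hye ▸ hy
      have hrange : Nat.card ν.range ≤ p := by
        refine le_trans (Nat.card_le_card_of_injective (fun z : ν.range =>
          (⟨((z : Dq) : (P : Subgroup G) ⧸ D1), ?_, (z : Dq).2⟩ :
            (Subgroup.centralizer ({π x} : Set ((P : Subgroup G) ⧸ D1)) ⊓ Dq : Subgroup _))) ?_) hle
        · obtain ⟨a, ha⟩ := z.2
          rw [← ha]
          exact Subgroup.mem_centralizer_singleton_iff.2 (hfix a).symm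
        · exact fun z z' h => Subtype.ext (Subtype.ext (congrArg Subtype.val h :))
      have h6 : (commutator A).index ≤ p := le_trans (Nat.le_of_dvd
        (Nat.pos_of_ne_zero Subgroup.index_ne_zero_of_finite) (Subgroup.index_dvd_of_le hker))
        (by rw [Subgroup.index_ker]; exact hrange)
      have h7 := comm_of_index_commutator_lt (p := p) (X := A) (P.2.to_subgroup A)
        (lt_of_le_of_lt h6 (by rw [sq]; exact lt_mul_of_one_lt_right hp.pos hp.one_lt))
      rw [← Subgroup.map_subtype_commutator, h7, Subgroup.map_bot]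
  -- so `D` is abelian
  intro a ha b hb
  set c : (P : Subgroup G) := ⁅(⟨a, ha.1⟩ : (P : Subgroup G)), ⟨b, hb.1⟩⁆ with hc
  have hcD1 : c ∈ D1 := Subgroup.commutator_mem_commutator ha.2 hb.2
  have hcM : (c : G) ∈ M := hD1D hcD1
  have hc1 : (⟨c, hcM⟩ : M) = 1 := by
    refine hZM _ fun m => ?_
    suffices hall : (⊤ : Subgroup M) ≤ Subgroup.centralizer {(⟨c, hcM⟩ : M)} from
      (Subgroup.mem_centralizer_singleton_iff.1 (hall (Subgroup.mem_top m))).symm
    rw [← htop]
    refine sSup_le fun V hV v hv => Subgroup.mem_centralizer_singleton_iff.2 ?_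
    have h1 := hD1 V hV hcD1
    rw [hkey V hV, bot_sup_eq] at h1
    exact Subgroup.mem_centralizer_iff.1
      ((hQv _ c hcM).1 (Subgroup.commutator_le_self _ h1)) v hv
  have h2 : (⁅(⟨a, ha.1⟩ : (P : Subgroup G)), (⟨b, hb.1⟩ : (P : Subgroup G))⁆ : (P : Subgroup G)) = 1 :=
    Subtype.ext (congrArg Subtype.val hc1 :)
  exact congrArg Subtype.val (commutatorElement_eq_one_iff_mul_comm.1 h2)

end Cfsg.Agent.BlocksChars.SmallCentralizer
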